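import Mathlib
import Groth.Prelude.Def_SGA1
import Groth.Prelude.Def_Flat

/-!
# Descent up to universal homeomorphism along a universally submersive morphism
-/

set_option autoImplicit false
set_option backward.isDefEq.respectTransparency false
universe u

open CategoryTheory CategoryTheory.Limits AlgebraicGeometry TopologicalSpace

noncomputable section

namespace GrothLib.HomeoDesc4

theorem isQuotientMap_base {X Y : Scheme.{u}} {p : X ⟶ Y} (hp : SGA1.UnivSubmersive p) :
    Topology.IsQuotientMap p.base :=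
  hp (𝟙 X) (𝟙 Y) p (IsPullback.of_vert_isIso ⟨by simp⟩)

variable {P T T' : Scheme.{u}} (π : P ⟶ T) (p : T' ⟶ T) (g : T' ⟶ P)

/-- The two compositions agree on reduced schemes. -/
def Agree : Prop :=
  ∀ (W : Scheme.{u}) [IsReduced W] (a b : W ⟶ T'), a ≫ p = b ≫ p → a ≫ g = b ≫ g

variable {π p g} (hp : SGA1.UnivSubmersive p) (hg : g ≫ π = p) (heq : Agree p g)

include heq in
theorem apply_eq {s t : T'} (h : p s = p t) : g s = g t := by
  obtain ⟨z, h1, h2⟩ := Scheme.Pullback.exists_preimage_pullback s t h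
  let w := (pullback p p).fromSpecResidueField z
  have := heq (Spec ((pullback p p).residueField z)) (w ≫ pullback.fst p p) (w ≫ pullback.snd p p)
    (by rw [Category.assoc, Category.assoc, pullback.condition])
  have hc := congrArg (fun φ => φ.base (IsLocalRing.closedPoint _)) this
  simp only [Scheme.Hom.comp_apply, w, Scheme.fromSpecResidueField_apply, h1, h2] at hc
  exact hc

include hg in
theorem π_g (s : T') : π (g s) = p s := by rw [← Scheme.Hom.comp_apply, hg]

include hp heq in
/-- The preimage in the base of an open subset. -/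
theorem isOpen_image_preimage (V : P.Opens) : IsOpen (p '' (g ⁻¹' (V : Set P))) := by
  rw [← (isQuotientMap_base hp).isOpen_preimage]
  convert V.2.preimage g.continuous using 1
  ext s
  exact ⟨fun ⟨t, ht, hts⟩ => show g s ∈ V by rw [apply_eq heq hts.symm]; exact ht,
    fun hs => ⟨s, hs, rfl⟩⟩

include hp hg heq in
theorem mem_range_of_mem_closure {V : P.Opens} [IsSeparated (V.ι ≫ π)] {z : P} (hz : z ∈ V)
    (hzW : π z ∈ p '' (g ⁻¹' (V : Set P))) (hcl : z ∈ closure (Set.range g)) : z ∈ Set.range g := by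
  classical
  let W : T.Opens := ⟨_, isOpen_image_preimage hp heq V⟩
  let O : P.Opens := V ⊓ π ⁻¹ᵁ W
  haveI : IsSeparated (O.ι ≫ π) := by
    rw [show O.ι = P.homOfLE inf_le_left ≫ V.ι from (Scheme.homOfLE_ι _ _).symm, Category.assoc]
    infer_instance
  -- the reduced closure inside O
  let C : Closeds O := ⟨closure (O.ι ⁻¹' Set.range g), isClosed_closure⟩
  let J := Scheme.IdealSheafData.vanishingIdeal C
  let c := J.subschemeι
  have hc : Set.range c = (C : Set O) := by
    rw [Scheme.IdealSheafData.range_subschemeι, Scheme.IdealSheafData.coe_support_vanishingIdeal]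
  let d := c ≫ O.ι ≫ π
  -- pull back
  let T'C := pullback p d
  let pC : T'C ⟶ J.subscheme := pullback.snd p d
  let fst : T'C ⟶ T' := pullback.fst p d
  have hqC : Topology.IsQuotientMap pC.base := hp _ _ _ (IsPullback.of_hasPullback p d).flip
  have hmemW : ∀ r : T'C, g (fst r) ∈ O := fun r => by
    have h1 : p (fst r) = π (O.ι (c (pC r))) := by
      rw [← Scheme.Hom.comp_apply, pullback.condition]
      rfl
    have h2 : p (fst r) ∈ W := by rw [h1]; exact (O.ι (c (pC r)) |> fun _ => ((c (pC r)).2).2)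
    obtain ⟨s, hs, hps⟩ := h2
    refine ⟨?_, show π (g (fst r)) ∈ W by rw [π_g hg]; exact ⟨s, hs, hps⟩⟩
    rw [apply_eq heq hps.symm]
    exact hs
  let a : T'C ⟶ O := IsOpenImmersion.lift O.ι (fst ≫ g) (by
    rintro _ ⟨r, rfl⟩
    rw [Scheme.Opens.range_ι, Scheme.Hom.comp_apply]
    exact hmemW r)
  have ha : a ≫ O.ι = fst ≫ g := IsOpenImmersion.lift_fac _ _ _
  let b : T'C ⟶ O := pC ≫ c
  have hab : a ≫ O.ι ≫ π = b ≫ O.ι ≫ π := by
    rw [← Category.assoc, ha, Category.assoc, hg]
    show pullback.fst p d ≫ p = (pullback.snd p d ≫ c) ≫ O.ι ≫ π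
    rw [pullback.condition, Category.assoc]
  let l : T'C ⟶ pullback (O.ι ≫ π) (O.ι ≫ π) := pullback.lift a b hab
  let Δ := pullback.diagonal (O.ι ≫ π)
  let Z : Set T'C := l ⁻¹' Set.range Δ
  have hZ : IsClosed Z := Δ.isClosedEmbedding.isClosed_range.preimage l.continuous
  -- membership through fields
  have key : ∀ (L : Scheme.{u}) [IsReduced L] [Subsingleton L] (e : L ⟶ T'C) (x : L),
      e x ∈ Z ↔ e ≫ a = e ≫ b := by
    intro L _ _ e x
    constructor
    · intro hx
      haveI : Surjective (pullback.snd Δ (e ≫ l)) := ⟨fun y => by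
        obtain ⟨o, ho⟩ := hx
        obtain ⟨q, -, hq⟩ := Scheme.Pullback.exists_preimage_pullback o x
          (show Δ o = (e ≫ l) x by rw [Scheme.Hom.comp_apply]; exact ho)
        exact ⟨q, hq.trans (Subsingleton.elim _ _)⟩⟩
      haveI : IsIso (pullback.snd Δ (e ≫ l)) := isIso_of_isClosedImmersion_of_surjective _
      have hfac : e ≫ l = inv (pullback.snd Δ (e ≫ l)) ≫ pullback.fst Δ (e ≫ l) ≫ Δ := by
        rw [pullback.condition, IsIso.inv_hom_id_assoc]
      have h1 := congrArg (· ≫ pullback.fst (O.ι ≫ π) (O.ι ≫ π)) hfac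
      have h2 := congrArg (· ≫ pullback.snd (O.ι ≫ π) (O.ι ≫ π)) hfac
      simp only [Category.assoc, Δ, pullback.diagonal_fst, pullback.diagonal_snd, Category.comp_id, l,
        pullback.lift_fst, pullback.lift_snd] at h1 h2
      exact h1.trans h2.symm
    · intro h
      have : e ≫ l = (e ≫ a) ≫ Δ := pullback.hom_ext (by simp [l, Δ]) (by simp [l, Δ, h])
      refine ⟨(e ≫ a) x, ?_⟩
      rw [← Scheme.Hom.comp_apply, ← this, Scheme.Hom.comp_apply]
  have hsat : ∀ r r' : T'C, pC r = pC r' → r ∈ Z → r' ∈ Z := by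
    intro r r' hrr hr
    obtain ⟨z, h1, h2⟩ := Scheme.Pullback.exists_preimage_pullback r r' hrr
    let w := (pullback pC pC).fromSpecResidueField z
    let e₁ := w ≫ pullback.fst pC pC
    let e₂ := w ≫ pullback.snd pC pC
    have he₁ : e₁ (IsLocalRing.closedPoint _) = r := by
      simp [e₁, w, Scheme.fromSpecResidueField_apply, h1]
    have he₂ : e₂ (IsLocalRing.closedPoint _) = r' := by
      simp [e₂, w, Scheme.fromSpecResidueField_apply, h2]
    have hp12 : e₁ ≫ pC = e₂ ≫ pC := by simp [e₁, e₂, pullback.condition]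
    have hga : e₁ ≫ a = e₂ ≫ a := by
      rw [← cancel_mono O.ι, Category.assoc, ha, ← Category.assoc]
      refine (heq (Spec ((pullback pC pC).residueField z)) (e₁ ≫ fst) (e₂ ≫ fst) ?_).trans ?_
      · simp only [Category.assoc, fst, pullback.condition]
        rw [← Category.assoc, ← Category.assoc]
        exact congrArg (· ≫ d) hp12
      · simp only [e₂, Category.assoc, ← ha]
    rw [← he₁, key] at hr
    rw [← he₂, key, ← hga, hr]
    show e₁ ≫ pC ≫ c = e₂ ≫ pC ≫ c
    rw [← Category.assoc, hp12, Category.assoc]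
  let G : Set J.subscheme := pC '' Z
  have hG : IsClosed G := by
    rw [← hqC.isClosed_preimage]
    convert hZ using 1
    ext r
    exact ⟨fun ⟨r', hr', h⟩ => hsat r' r h hr', fun hr => ⟨r, hr, rfl⟩⟩
  have hdense : c '' G ⊇ O.ι ⁻¹' Set.range g := by
    rintro o ⟨s, hs⟩
    let L := Spec (T'.residueField s)
    have hrange : Set.range (T'.fromSpecResidueField s ≫ g) ⊆ Set.range O.ι := by
      rintro _ ⟨x, rfl⟩
      exact ⟨o, by rw [Scheme.Hom.comp_apply, Scheme.fromSpecResidueField_apply, hs]⟩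
    let m : L ⟶ O := IsOpenImmersion.lift O.ι (T'.fromSpecResidueField s ≫ g) hrange
    have hm : m ≫ O.ι = T'.fromSpecResidueField s ≫ g := IsOpenImmersion.lift_fac _ _ _
    have hmo : ∀ x : L, m x = o := fun x => O.ι.isOpenEmbedding.injective (by
      rw [← Scheme.Hom.comp_apply, hm, Scheme.Hom.comp_apply, Scheme.fromSpecResidueField_apply, hs])
    haveI : QuasiCompact m := ⟨fun V _ _ => (Set.toFinite _).isCompact⟩
    have hker : c.ker ≤ m.ker := by
      rw [Scheme.IdealSheafData.ker_subschemeι]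
      intro U t ht
      rw [Scheme.Hom.ker_apply, RingHom.mem_ker]
      refine (AlgebraicGeometry.basicOpen_eq_bot_iff _).1 ?_
      rw [← Scheme.preimage_basicOpen, eq_bot_iff]
      intro x hx
      have hb : o ∈ O.toScheme.basicOpen t := hmo x ▸ hx
      have hoC : o ∈ (J.support : Set O) := by
        rw [Scheme.IdealSheafData.coe_support_vanishingIdeal]
        exact subset_closure (show o ∈ O.ι ⁻¹' Set.range g from ⟨s, hs⟩)
      have hoU : o ∈ U.1 := O.toScheme.basicOpen_le _ hb
      have h0 := (J.coe_support_inter U).subset ⟨hoC, hoU⟩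
      rw [Scheme.zeroLocus_def] at h0
      exact ((Set.mem_iInter₂.1 h0.1) t ht hb).elim
    let mC := IsClosedImmersion.lift c m hker
    have hmC : mC ≫ c = m := IsClosedImmersion.lift_fac _ _ _
    let e : L ⟶ T'C := pullback.lift (T'.fromSpecResidueField s) mC (by
      show _ = mC ≫ c ≫ O.ι ≫ π
      rw [← Category.assoc mC, hmC, ← Category.assoc m, hm, Category.assoc, hg])
    let x : L := IsLocalRing.closedPoint _
    refine ⟨pC (e x), ⟨e x, (key L e x).2 ?_, rfl⟩, ?_⟩
    · rw [← cancel_mono O.ι, Category.assoc, ha, ← Category.assoc, Category.assoc e b]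
      show (pullback.lift _ _ _ ≫ pullback.fst p d) ≫ g = pullback.lift _ _ _ ≫ (pC ≫ c) ≫ O.ι
      rw [pullback.lift_fst, Category.assoc pC, pullback.lift_snd_assoc, ← Category.assoc mC, hmC, hm]
    · rw [← Scheme.Hom.comp_apply, ← Scheme.Hom.comp_apply, pullback.lift_snd_assoc, hmC, hmo]
  have hall : ∀ y : J.subscheme, y ∈ G := by
    intro y
    have h1 : IsClosed (c '' G) := c.isClosedEmbedding.isClosedMap _ hG
    have h2 : c y ∈ c '' G := h1.closure_subset_iff.2 hdense (hc ▸ Set.mem_range_self y : c y ∈ (C : Set O))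
    obtain ⟨y', hy', he⟩ := h2
    exact c.isClosedEmbedding.injective he ▸ hy'
  have hzO : z ∈ O := ⟨hz, hzW⟩
  have hzC : (⟨z, hzO⟩ : O) ∈ (C : Set O) := by
    show _ ∈ closure (O.ι ⁻¹' Set.range g)
    rw [← O.ι.isOpenEmbedding.isOpenMap.preimage_closure_eq_closure_preimage O.ι.continuous]
    exact hcl
  rw [← hc] at hzC
  obtain ⟨y, hy⟩ := hzC
  obtain ⟨r, hr, rfl⟩ := hall y
  let e := T'C.fromSpecResidueField r
  let x : Spec (T'C.residueField r) := IsLocalRing.closedPoint _
  have her : e x = r := Scheme.fromSpecResidueField_apply r x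
  rw [← her, key] at hr
  refine ⟨fst r, ?_⟩
  have h3 := congrArg (fun φ => (φ ≫ O.ι) x) hr
  simp only [Category.assoc, ha] at h3
  simp only [Scheme.Hom.comp_apply, her, b] at h3
  rw [h3, hy]
  rfl

include hp hg heq in
/-- The open set in which the image is closed. -/
theorem exists_open :
    ∃ O : P.Opens, Set.range g ⊆ O ∧ IsClosed (O.ι ⁻¹' Set.range g) := by
  let good (V : P.affineOpens) : P.Opens :=
    V.1 ⊓ π ⁻¹ᵁ ⟨_, isOpen_image_preimage hp heq V.1⟩
  refine ⟨⨆ V, good V, ?_, ?_⟩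
  · rintro _ ⟨s, rfl⟩
    obtain ⟨_, ⟨V, hV, rfl⟩, hs, -⟩ :=
      P.isBasis_affineOpens.exists_subset_of_mem_open (Set.mem_univ (g s)) isOpen_univ
    exact (le_iSup good ⟨V, hV⟩) (show g s ∈ good ⟨V, hV⟩ from ⟨hs, s, hs, (π_g hg s).symm⟩)
  · refine closure_subset_iff_isClosed.1 fun o ho => ?_
    obtain ⟨V, hV⟩ := TopologicalSpace.Opens.mem_iSup.1 o.2
    haveI : IsAffine (V.1 : Scheme.{u}) := V.2
    haveI : IsSeparated (V.1.ι ≫ π) := inferInstance
    refine mem_range_of_mem_closure hp hg heq hV.1 hV.2 ?_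
    exact map_mem_closure (⨆ V, good V).ι.continuous ho fun y hy => hy

theorem isSeparated_of_injective {X Y : Scheme.{u}} (f : X ⟶ Y) [UniversallyInjective f] : IsSeparated f := by
  refine ⟨IsClosedImmersion.of_isPreimmersion (pullback.diagonal f) ?_⟩
  have hs : Surjective (pullback.diagonal f) :=
    ((UniversallyInjective.iff_diagonal f).1 ‹_›)
  rw [hs.surj.range_eq]
  exact isClosed_univ

include hp hg heq in
/-- The factorisation through a universal homeomorphism. -/
theorem exists_factorization [QuasiCompact g] :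
    ∃ (T₁ : Scheme.{u}) (q : T' ⟶ T₁) (u : T₁ ⟶ T) (f₁ : T₁ ⟶ P), q ≫ f₁ = g ∧ f₁ ≫ π = u ∧ q ≫ u = p ∧
      (∀ U : T₁.Opens, Function.Injective (q.app U).hom) ∧ FlatMor.IsUnivHomeo u ∧ IsSeparated u := by
  obtain ⟨O, hO, hcl⟩ := exists_open hp hg heq
  let g' : T' ⟶ O := IsOpenImmersion.lift O.ι g (by rw [Scheme.Opens.range_ι]; exact hO)
  have hg' : g' ≫ O.ι = g := IsOpenImmersion.lift_fac _ _ _
  haveI : QuasiCompact g' := by
    haveI : QuasiCompact (g' ≫ O.ι) := by rw [hg']; infer_instance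
    exact QuasiCompact.of_comp g' O.ι
  let q := g'.toImage
  let i := g'.imageι
  have hqi : q ≫ i = g' := g'.toImage_imageι
  haveI : Surjective q := ⟨fun y => by
    have h1 : i y ∈ closure (Set.range g') := map_mem_closure i.continuous (g'.toImage.denseRange y)
      (by rintro _ ⟨s, rfl⟩; exact ⟨s, by rw [← Scheme.Hom.comp_apply, hqi]⟩)
    have h2 : Set.range g' = O.ι ⁻¹' Set.range g := by
      ext o
      refine ⟨?_, fun ⟨s, hs⟩ => ⟨s, O.ι.isOpenEmbedding.injective (by rw [← Scheme.Hom.comp_apply, hg', hs])⟩⟩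
      rintro ⟨s, rfl⟩
      exact ⟨s, by rw [← Scheme.Hom.comp_apply, hg']⟩
    rw [h2, hcl.closure_eq, ← h2] at h1
    obtain ⟨s, hs⟩ := h1
    exact ⟨s, i.isClosedEmbedding.injective (by rw [← Scheme.Hom.comp_apply, hqi]; exact hs)⟩⟩
  let f₁ : g'.image ⟶ P := i ≫ O.ι
  have hqf : q ≫ f₁ = g := by rw [← Category.assoc, hqi, hg']
  let u := f₁ ≫ π
  have hqu : q ≫ u = p := by rw [← Category.assoc, hqf, hg]
  have hhom : FlatMor.IsUnivHomeo u := by
    intro X₂ Y₂ a b u₂ hpb
    show IsHomeomorph u₂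
    let sq := IsPullback.of_hasPullback q a
    let q₂ : pullback q a ⟶ X₂ := pullback.snd q a
    haveI : Surjective q₂ := MorphismProperty.of_isPullback sq inferInstance
    have hbig : IsPullback (pullback.fst q a) (q₂ ≫ u₂) (q ≫ u) b := sq.paste_vert hpb.flip
    rw [hqu] at hbig
    have hquot : Topology.IsQuotientMap (q₂ ≫ u₂).base := hp _ _ _ hbig.flip
    have hinj : ∀ r r', (q₂ ≫ u₂) r = (q₂ ≫ u₂) r' → q₂ r = q₂ r' := by
      intro r r' h
      obtain ⟨z, h1, h2⟩ := Scheme.Pullback.exists_preimage_pullback r r' h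
      let w := (pullback (q₂ ≫ u₂) (q₂ ≫ u₂)).fromSpecResidueField z
      let e₁ := w ≫ pullback.fst (q₂ ≫ u₂) (q₂ ≫ u₂)
      let e₂ := w ≫ pullback.snd (q₂ ≫ u₂) (q₂ ≫ u₂)
      have h12 : e₁ ≫ q₂ ≫ u₂ = e₂ ≫ q₂ ≫ u₂ := by simp [e₁, e₂, pullback.condition]
      have hgg : (e₁ ≫ pullback.fst q a) ≫ g = (e₂ ≫ pullback.fst q a) ≫ g := by
        refine heq _ _ _ ?_
        simp only [Category.assoc, hbig.w]
        simpa only [Category.assoc] using congrArg (· ≫ b) h12
      have he : e₁ ≫ q₂ = e₂ ≫ q₂ := by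
        refine hpb.hom_ext (by simpa only [Category.assoc] using h12) ?_
        have hqa : q₂ ≫ a ≫ f₁ = pullback.fst q a ≫ g := by
          rw [← hqf, pullback.condition_assoc]
        rw [← cancel_mono f₁]
        simp only [Category.assoc, hqa]
        simpa only [Category.assoc] using hgg
      have := congrArg (fun φ => φ.base (IsLocalRing.closedPoint _)) he
      simp only [e₁, e₂, w, Scheme.Hom.comp_apply, Scheme.fromSpecResidueField_apply, h1, h2] at this
      exact this
    refine ⟨u₂.continuous, fun V hV => ?_, ⟨fun x x' hxx => ?_, fun y => ?_⟩⟩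
    · rw [← hquot.isOpen_preimage]
      convert hV.preimage q₂.continuous using 1
      ext r
      refine ⟨fun ⟨x, hx, hxr⟩ => ?_, fun hr => ⟨q₂ r, hr, (Scheme.Hom.comp_apply q₂ u₂ r).symm⟩⟩
      obtain ⟨r', rfl⟩ := q₂.surjective x
      show q₂ r ∈ V
      rw [← hinj r' r (by rw [Scheme.Hom.comp_apply]; exact hxr)]
      exact hx
    · obtain ⟨r, rfl⟩ := q₂.surjective x
      obtain ⟨r', rfl⟩ := q₂.surjective x'
      exact hinj r r' (by rw [Scheme.Hom.comp_apply, Scheme.Hom.comp_apply]; exact hxx)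
    · obtain ⟨r, hr⟩ := hquot.surjective y
      exact ⟨q₂ r, by rw [← Scheme.Hom.comp_apply]; exact hr⟩
  haveI : UniversallyInjective u := ⟨MorphismProperty.universally_mono
    (fun _ _ f (hf : (topologically fun φ => IsHomeomorph φ) f) => IsHomeomorph.injective hf) _ hhom⟩
  exact ⟨g'.image, q, u, f₁, hqf, rfl, hqu, fun U => TopCat.Presheaf.app_injective_of_stalkFunctor_map_injective (F := g'.image.sheaf) q.c U
    (fun x _ => g'.stalkFunctor_toImage_injective x), hhom, isSeparated_of_injective u⟩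

end GrothLib.HomeoDesc4
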